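import Cfsg.Agent.H843.IMC.Co3A
import Cfsg.Agent.H847.Co1Small

/-!
# S4247 [S4247-SP3]: `Co₁` and `Co₃` have no subgroup of index 253 (helper680)
-/

set_option autoImplicit false

namespace Cfsg.Agent.H680.DP

open Cfsg Cfsg.Agent.Characters.Core MulAction
open scoped ComplexConjugate

universe u

section gen

variable {G : Type*} [Group G] [Finite G]

/-- **orbits and constituents** -/
theorem le_add_one (X Y : Type*) [MulAction G X] [MulAction G Y] [Finite X] [Finite Y] [Nonempty X]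
    [IsPretransitive G X] (h2 : IsMultiplyPretransitive G Y 2) (hY : 2 ≤ Nat.card Y)
    (hnt : ¬ IsPretransitive G (X × Y)) : Nat.card Y ≤ Nat.card X + 1 := by
  classical
  have := Fintype.ofFinite G
  have : Finite (IrrCharacter G) := finite_irr
  have : Fintype (IrrCharacter G) := Fintype.ofFinite _
  obtain ⟨θ, hθ⟩ := Cfsg.Agent.H419.TwoTrans.exists_irr (G := G) Y h2 hY
  have hπ := Cfsg.Agent.S0157.isCharacter_fixedBy (G := G) X
  set π : G → ℂ := fun g : G => (Nat.card (fixedBy X g) : ℂ) with hπdef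
  obtain ⟨m, hm⟩ := exists_nat_comb hπ
  have h1 : classInner π (θ : G → ℂ) = m θ := by rw [hm]; exact classInner_sum_nsmul_irr m θ
  have hprod : ∀ g : G, Nat.card (fixedBy (X × Y) g) = Nat.card (fixedBy X g) * Nat.card (fixedBy Y g) := by
    intro g
    rw [← Nat.card_prod]
    refine Nat.card_congr
      { toFun := fun p => (⟨p.1.1, congrArg Prod.fst p.2⟩, ⟨p.1.2, congrArg Prod.snd p.2⟩)
        invFun := fun p => ⟨(p.1.1, p.2.1), Prod.ext p.1.2 p.2.2⟩
        left_inv := fun _ => rfl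
        right_inv := fun _ => rfl }
  have h3 : classInner π (θ : G → ℂ) = (Nat.card (Quotient (orbitRel G (X × Y))) : ℂ) -
      Nat.card (Quotient (orbitRel G X)) := by
    rw [classInner_def, ← Cfsg.Agent.S0157.avg_fixedBy (G := G) (X × Y), ← Cfsg.Agent.S0157.avg_fixedBy (G := G) X,
      ← mul_sub, ← Finset.sum_sub_distrib]
    congr 1
    refine Finset.sum_congr rfl fun g _ => ?_
    rw [hθ, hprod, map_sub, map_one, Complex.conj_natCast, hπdef]
    push_cast
    ring
  have h4 : Nat.card (Quotient (orbitRel G X)) = 1 := by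
    have : Subsingleton (Quotient (orbitRel G X)) := by
      rw [← pretransitive_iff_subsingleton_quotient]
      infer_instance
    have : Nonempty (Quotient (orbitRel G X)) := ⟨Quotient.mk _ (Classical.arbitrary X)⟩
    exact Nat.card_unique
  have h5 : 2 ≤ Nat.card (Quotient (orbitRel G (X × Y))) := by
    have hYn : Nonempty Y := by
      by_contra hne
      rw [not_nonempty_iff] at hne
      rw [Nat.card_of_isEmpty] at hY
      omega
    have hQ : Nonempty (Quotient (orbitRel G (X × Y))) := ⟨Quotient.mk _ (Classical.arbitrary (X × Y))⟩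
    have h6 : Nat.card (Quotient (orbitRel G (X × Y))) ≠ 0 := Nat.card_pos.ne'
    have h7 : Nat.card (Quotient (orbitRel G (X × Y))) ≠ 1 := by
      intro h8
      apply hnt
      rw [pretransitive_iff_subsingleton_quotient]
      exact (Nat.card_eq_one_iff_unique.1 h8).1
    omega
  have h6 : m θ ≠ 0 := by
    intro h7
    rw [h1, h7, h4] at h3
    have h8 : (Nat.card (Quotient (orbitRel G (X × Y))) : ℂ) = ((1 : ℕ) : ℂ) := by
      push_cast at h3 ⊢
      linear_combination -h3
    have h9 := Nat.cast_injective h8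
    omega
  -- degrees
  have hd : ∀ ψ : IrrCharacter G, ∃ n : ℕ, (ψ : G → ℂ) 1 = n := fun ψ => by
    obtain ⟨n, -, hn⟩ := isIrr_apply_one ψ.2
    exact ⟨n, hn⟩
  choose n hn using hd
  have h8 : (Nat.card X : ℂ) = ((∑ ψ : IrrCharacter G, m ψ * n ψ : ℕ) : ℂ) := by
    have h9 := congrFun hm 1
    rw [hπdef] at h9
    simp only [Finset.sum_apply, nsmul_eq_mul, Pi.mul_apply, Pi.natCast_apply, hn] at h9
    rw [MulAction.fixedBy_one_eq_univ, Nat.card_coe_set_eq, Set.ncard_univ] at h9
    rw [h9]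
    push_cast
    rfl
  have h9 : Nat.card X = ∑ ψ : IrrCharacter G, m ψ * n ψ := Nat.cast_injective h8
  have h10 : m θ * n θ ≤ Nat.card X := by
    rw [h9]
    exact Finset.single_le_sum (f := fun ψ => m ψ * n ψ) (fun _ _ => Nat.zero_le _) (Finset.mem_univ θ)
  have h11 : n θ + 1 = Nat.card Y := by
    have h12 := hθ 1
    rw [hn, MulAction.fixedBy_one_eq_univ, Nat.card_coe_set_eq, Set.ncard_univ] at h12
    have h13 : ((n θ + 1 : ℕ) : ℂ) = (Nat.card Y : ℂ) := by
      push_cast
      rw [h12]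
      ring
    exact Nat.cast_injective h13
  have h12 : n θ ≤ m θ * n θ := Nat.le_mul_of_pos_left _ (Nat.pos_of_ne_zero h6)
  omega

end gen

theorem co3_aux (H : Subgroup Spor.Co3) : H.index ≠ 253 := by
  intro hH
  have hX : Nat.card (Spor.Co3 ⧸ H) = 253 := hH
  have hfin : Finite (Spor.Co3 ⧸ H) := Nat.finite_of_card_ne_zero (by rw [hX]; norm_num)
  have hY := Cfsg.Agent.H843.IMC.Co3A.card_Y
  have hfY : Finite Cfsg.Agent.H843.IMC.Co3A.Y := Nat.finite_of_card_ne_zero (by rw [hY]; norm_num)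
  have h1 := le_add_one (G := Spor.Co3) (Spor.Co3 ⧸ H) Cfsg.Agent.H843.IMC.Co3A.Y
    Cfsg.Agent.H843.IMC.Co3A.two_trans (by rw [hY]; norm_num) (by
      intro ht
      have h2 : Nat.card ((Spor.Co3 ⧸ H) × Cfsg.Agent.H843.IMC.Co3A.Y) ∣ Nat.card Spor.Co3 := by
        have hne : Nonempty ((Spor.Co3 ⧸ H) × Cfsg.Agent.H843.IMC.Co3A.Y) := by
          have : Nonempty Cfsg.Agent.H843.IMC.Co3A.Y := (Nat.card_pos_iff.1 (by rw [hY]; norm_num)).1
          infer_instance
        obtain ⟨x⟩ := hne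
        rw [← MulAction.index_stabilizer_of_transitive Spor.Co3 x]
        exact Subgroup.index_dvd_card _
      rw [Nat.card_prod, hX, hY, Cfsg.Agent.H843.IMC.Co3A.card_co3] at h2
      revert h2
      norm_num)
  rw [hX, hY] at h1
  omega

theorem co1_aux (H : Subgroup Spor.Co1) : H.index ≠ 253 := by
  intro hH
  have hX : Nat.card (Spor.Co1 ⧸ H) = 253 := hH
  have hfin : Finite (Spor.Co1 ⧸ H) := Nat.finite_of_card_ne_zero (by rw [hX]; norm_num)
  have := Fintype.ofFinite (Spor.Co1 ⧸ H)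
  have h1 : ∀ g, Cfsg.Agent.S0157.permRepFun Spor.Co1 (Spor.Co1 ⧸ H) g = 1 := by
    intro g
    refine Cfsg.Agent.H847.Co1Small.trivial_of_lt (W := (Spor.Co1 ⧸ H) → ℂ)
      (Cfsg.Agent.S0157.permRepFun Spor.Co1 (Spor.Co1 ⧸ H)) ?_ g
    rw [Module.finrank_fintype_fun_eq_card, ← Nat.card_eq_fintype_card, hX]
    norm_num
  have h2 : ∀ g : Spor.Co1, g ∈ H := by
    classical
    intro g
    have h3 := LinearMap.congr_fun (h1 g) (Pi.single ((1 : Spor.Co1) : Spor.Co1 ⧸ H) (1 : ℂ))
    have h4 := congrFun h3 ((1 : Spor.Co1) : Spor.Co1 ⧸ H)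
    simp only [Cfsg.Agent.S0157.permRepFun, MonoidHom.coe_mk, OneHom.coe_mk, LinearMap.funLeft_apply,
      Module.End.one_apply, Pi.single_eq_same] at h4
    have h5 : g⁻¹ • ((1 : Spor.Co1) : Spor.Co1 ⧸ H) = ((1 : Spor.Co1) : Spor.Co1 ⧸ H) := by
      by_contra h6
      rw [Pi.single_eq_of_ne h6] at h4
      exact zero_ne_one h4
    rw [MulAction.Quotient.smul_coe, smul_eq_mul, mul_one] at h5
    have h6 := (QuotientGroup.eq (s := H)).1 h5
    simpa using h6
  have h3 : H = ⊤ := (Subgroup.eq_top_iff' H).2 h2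
  rw [h3, Subgroup.index_top] at hH
  omega

/-- **no subgroup of index 253** -/
theorem no_index_co3 {S : Type u} [Group S] [Finite S] (h : Cfsg.Spor.IsoCo3 S) (H : Subgroup S) : H.index ≠ 253 := by
  obtain ⟨e⟩ := h
  rw [← Subgroup.index_comap_of_surjective H (f := e.symm.toMonoidHom) e.symm.surjective]
  exact co3_aux _

/-- **no subgroup of index 253** -/
theorem no_index_co1 {S : Type u} [Group S] [Finite S] (h : Cfsg.Spor.IsoCo1 S) (H : Subgroup S) : H.index ≠ 253 := by
  obtain ⟨e⟩ := h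
  rw [← Subgroup.index_comap_of_surjective H (f := e.symm.toMonoidHom) e.symm.surjective]
  exact co1_aux _

end Cfsg.Agent.H680.DP
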