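import Cfsg.Agent.H583.DPi.Eng
import Cfsg.Agent.H729.NFHe
import Cfsg.Agent.CpAutTits.Row

/-!
# S4247 [S4247-NF4]: the Held group has no elements of order 35, no involution of the Tits group centralises a
Sylow 5-subgroup (helper680)
-/

set_option autoImplicit false

namespace Cfsg.Agent.H680.DP

open Cfsg Subgroup Cfsg.Agent.H583.DPi

universe u

theorem nf_he {S : Type u} [Group S] [Finite S] (h : Cfsg.Spor.IsoHe S) : ∀ g : S, orderOf g ≠ 35 := by
  obtain ⟨e⟩ := h
  intro g hg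
  have hg' : orderOf (e g) = 35 := by rw [MulEquiv.orderOf_eq, hg]
  have h1 := Cfsg.Agent.H729.NFHe.no35 (e g ^ 7) (e g ^ 5)
    (by rw [orderOf_pow' _ (by norm_num), hg']; norm_num) (by rw [orderOf_pow' _ (by norm_num), hg']; norm_num)
  exact h1 (((Commute.refl (e g)).pow_pow 7 5).eq)

section

variable {G : Type*} [Group G] [Finite G]

theorem nf_of_ten (hten : ∀ y : G, orderOf y = 5 → ∀ i, orderOf i = 2 → i * y = y * i →
    Nat.card ↥(centralizer ({y} : Set G) ⊓ centralizer ({i} : Set G)) = 10) : NF G 5 2 2 := by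
  intro Q hQ y hy hc
  have : Fact (Nat.Prime 5) := ⟨by norm_num⟩
  have h5 : 5 ∣ Nat.card Q := by rw [hQ]; norm_num
  obtain ⟨x, hx⟩ := exists_prime_orderOf_dvd_card' 5 h5
  have hcomm : ∀ a b : Q, a * b = b * a := by
    have := IsPGroup.isMulCommutative_of_card_eq_prime_sq (p := 5) (G := Q) hQ
    exact fun a b => this.is_comm.comm a b
  have h1 := hten (x : G) (by rw [Subgroup.orderOf_coe, hx]) y hy (hc x x.2).symm
  have h2 : Q ≤ centralizer ({(x : G)} : Set G) ⊓ centralizer ({y} : Set G) := by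
    intro a ha
    refine ⟨mem_centralizer_singleton_iff.2 ?_, mem_centralizer_singleton_iff.2 (hc a ha)⟩
    exact congrArg Subtype.val (hcomm ⟨a, ha⟩ x)
  have h3 := Subgroup.card_dvd_of_le h2
  rw [h1, hQ] at h3
  revert h3
  norm_num

end

theorem NF.congr {A B : Type*} [Group A] [Group B] (e : A ≃* B) {s a t : ℕ} (h : NF B s a t) : NF A s a t := by
  intro Q hQ y hy hc
  refine h (Q.map e.toMonoidHom) ?_ (e y) (by rw [MulEquiv.orderOf_eq, hy]) ?_
  · rw [← hQ]
    exact (Nat.card_congr (Q.equivMapOfInjective e.toMonoidHom e.injective).toEquiv).symm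
  · rintro _ ⟨x, hx, rfl⟩
    have h1 := hc x hx
    have h2 : e (x * y) = e (y * x) := by rw [h1]
    rw [map_mul, map_mul] at h2
    exact h2

theorem nf_tt : NF ↥Cfsg.Agent.TitsK.TT 5 2 2 :=
  nf_of_ten Cfsg.Agent.CpAutTits.Ten.facts.ten

theorem transp_a {X L : Type*} [Group X] [Group L] (K : Subgroup X) (T : Subgroup L)
    (e : Nonempty (↥(_root_.commutator K) ≃* T)) (h : NF T 5 2 2) : NF ↥(_root_.commutator K) 5 2 2 := by
  obtain ⟨e⟩ := e
  exact NF.congr e h

theorem transp_b {X : Type*} [Group X] (K : Subgroup X) {G : Type*} [Group G] (e : Nonempty (G ≃* _root_.commutator K))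
    (h : NF ↥(_root_.commutator K) 5 2 2) : NF G 5 2 2 := by
  obtain ⟨e⟩ := e
  exact NF.congr e h

theorem nf_titsGroup : NF Cfsg.Lie.TitsGroup 5 2 2 :=
  transp_a (Cfsg.Lie.twistedF4 (ZMod 2) 1) Cfsg.Agent.TitsK.TT Cfsg.Agent.TitsK.exists_equiv nf_tt

theorem nf_tits {S : Type u} [Group S] [Finite S] (h : Cfsg.Lie.IsoTits S) : NF S 5 2 2 :=
  transp_b _ h nf_titsGroup

end Cfsg.Agent.H680.DP
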